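import Groth.Agent.Cyc90.AffBundlePoly
import Groth.Agent.Cyc90.FieldSetup
import Groth.Agent.Cyc90.Dev.ProperField
import Groth.Agent.Cyc90.Strata.AffineCell
import Groth.Agent.Cyc90.IntegralOrd
import Mathlib.RingTheory.PolynomialAlgebra
import Mathlib.Algebra.Category.Ring.Constructions
import Mathlib.AlgebraicGeometry.Morphisms.Flat

/-! The product of a scheme over a field with the affine line, given by a cartesian square. -/

set_option autoImplicit false
set_option backward.isDefEq.respectTransparency.types false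
set_option linter.style.haveILetI false
universe u

open CategoryTheory CategoryTheory.Limits AlgebraicGeometry TopologicalSpace IsLocalRing Polynomial

noncomputable section

namespace Groth.Agent.Cyc90.Horiz

variable {k : Type u} [Field k] {X P : Scheme.{u}} {f : X ⟶ Spec (CommRingCat.of k)}
  {p₁ : P ⟶ X} {p₂ : P ⟶ Spec (CommRingCat.of (Polynomial k))}

/-- Over an affine open the product is the spectrum of the polynomial ring. -/
theorem exists_chart (hP : IsPullback p₁ p₂ f (Spec.map (CommRingCat.ofHom (Polynomial.C : k →+* Polynomial k))))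
    (U : X.Opens) (hU : IsAffineOpen U) :
    ∃ (j : Spec (CommRingCat.of (Polynomial Γ(X, U))) ⟶ P) (σ : k →+* Γ(X, U)), IsOpenImmersion j ∧
      j ≫ p₁ = Spec.map (CommRingCat.ofHom (Polynomial.C : Γ(X, U) →+* Polynomial Γ(X, U))) ≫ hU.fromSpec ∧
      j ≫ p₂ = Spec.map (CommRingCat.ofHom (Polynomial.mapRingHom σ)) ∧
      ∀ v : P, p₁ v ∈ U → v ∈ Set.range j := by
  let R := Γ(X, U)
  obtain ⟨ψ, hψ⟩ := Spec.map_surjective (hU.fromSpec ≫ f)
  let σ : k →+* R := ψ.hom
  letI : Algebra k R := σ.toAlgebra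
  letI : Algebra (Polynomial k) (Polynomial R) := Polynomial.algebra k R
  let c := CommRingCat.ofHom (Polynomial.C : R →+* Polynomial R)
  have hσ : Spec.map (CommRingCat.ofHom σ) = hU.fromSpec ≫ f := hψ
  have hsq : IsPullback (Spec.map c) (Spec.map (CommRingCat.ofHom (Polynomial.mapRingHom σ)))
      (Spec.map (CommRingCat.ofHom σ)) (Spec.map (CommRingCat.ofHom (Polynomial.C : k →+* Polynomial k))) := by
    refine isPullback_SpecMap_of_isPushout _ _ _ _ ?_
    have h := ((CommRingCat.isPushout_iff_isPushout (R := k) (S := R) (R' := Polynomial k) (S' := Polynomial R)).2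
      inferInstance).flip
    rw [Polynomial.algebraMap_eq, Polynomial.algebraMap_eq] at h
    exact h
  rw [hσ] at hsq
  obtain ⟨j, hj₁, hj₂⟩ : ∃ j, j ≫ p₁ = Spec.map c ≫ hU.fromSpec ∧
      j ≫ p₂ = Spec.map (CommRingCat.ofHom (Polynomial.mapRingHom σ)) :=
    ⟨hP.lift _ _ (by rw [Category.assoc]; exact hsq.w), hP.lift_fst _ _ _, hP.lift_snd _ _ _⟩
  have hpb : IsPullback (Spec.map c) j hU.fromSpec p₁ :=
    IsPullback.of_bot (hj₂.symm ▸ hsq) hj₁.symm hP
  have hoi : IsOpenImmersion j := MorphismProperty.of_isPullback hpb inferInstance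
  refine ⟨j, σ, hoi, hj₁, hj₂, fun v hv => ?_⟩
  obtain ⟨s, hs⟩ : p₁ v ∈ Set.range hU.fromSpec := by rw [hU.range_fromSpec]; exact hv
  obtain ⟨w, -, hw⟩ := Scheme.exists_preimage_of_isPullback hpb s v hs
  exact ⟨w, hw⟩

theorem locallyOfFiniteType_line :
    LocallyOfFiniteType (Spec.map (CommRingCat.ofHom (Polynomial.C : k →+* Polynomial k))) := by
  rw [HasRingHomProperty.Spec_iff (P := @LocallyOfFiniteType)]
  exact RingHom.finiteType_algebraMap.2 (inferInstance : Algebra.FiniteType k (Polynomial k))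

variable (hP : IsPullback p₁ p₂ f (Spec.map (CommRingCat.ofHom (Polynomial.C : k →+* Polynomial k))))
include hP

theorem flat_proj : Flat p₁ := by
  refine MorphismProperty.of_isPullback hP.flip ?_
  rw [HasRingHomProperty.Spec_iff (P := @Flat)]
  exact RingHom.flat_algebraMap_iff.2 (inferInstance : Module.Flat k (Polynomial k))

theorem locallyOfFiniteType_proj : LocallyOfFiniteType p₁ :=
  MorphismProperty.of_isPullback hP.flip locallyOfFiniteType_line

/-- The coordinate of the line. -/
theorem exists_affine_fibre {δX : X → ℤ} {δP : P → ℤ} (hX : Cyc.IsSetup X δX) (hPs : Cyc.IsSetup P δP)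
    (hδ : Cyc.DeltaCompat p₁ δP δX) (y : X) : IsAffFibre p₁ δP δX 1 y := by
  haveI := locallyOfFiniteType_proj hP
  obtain ⟨U, hU, hyU, -⟩ := exists_isAffineOpen_mem_and_subset (X := X) (x := y) (U := ⊤) trivial
  obtain ⟨j, σ, hj, hj₁, -, hrange⟩ := exists_chart hP U hU
  obtain ⟨q, rfl⟩ : y ∈ Set.range hU.fromSpec := by rw [hU.range_fromSpec]; exact hyU
  let R := Γ(X, U)
  let f' := Spec.map (CommRingCat.ofHom (Polynomial.C : R →+* Polynomial R))
  let δX' : Spec (CommRingCat.of R) → ℤ := fun z => δX (hU.fromSpec z)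
  let δP' : Spec (CommRingCat.of (Polynomial R)) → ℤ := fun z => δP (j z)
  have hX' : Cyc.IsSetup _ δX' := isSetup_of_lft hU.fromSpec δX hX δX' (deltaCompat_preimmersion _ δX)
  have hP' : Cyc.IsSetup _ δP' := isSetup_of_lft j δP hPs δP' (deltaCompat_preimmersion _ δP)
  have hcompat : Cyc.DeltaCompat f' δP' δX' := by
    have h : Cyc.DeltaCompat (f' ≫ hU.fromSpec) δP' δX := by
      rw [← hj₁]
      intro z
      obtain ⟨n, hn, hd⟩ := hδ (j z)
      refine ⟨n, ?_, hd⟩
      letI : Algebra (X.residueField ((j ≫ p₁) z)) ((Spec (CommRingCat.of (Polynomial R))).residueField z) :=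
        ((j ≫ p₁).residueFieldMap z).hom.toAlgebra
      letI : Algebra (X.residueField ((j ≫ p₁) z)) (P.residueField (j z)) := (p₁.residueFieldMap (j z)).hom.toAlgebra
      refine (AlgEquiv.trdeg_eq (AlgEquiv.ofBijective ⟨(j.residueFieldMap z).hom, fun c => ?_⟩
        ⟨RingHom.injective _, residueFieldMap_surjective j z⟩)).symm.trans hn
      exact (DFunLike.congr_fun (congrArg CommRingCat.Hom.hom (Scheme.residueFieldMap_comp j p₁ z)) c).symm
    exact deltaCompat_of_comp f' hU.fromSpec h (deltaCompat_preimmersion hU.fromSpec δX)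
  refine isAffFibre_of_square p₁ f' j hU.fromSpec hj₁ (fun v hv => hrange v ?_) hPs q ?_
  · have hv' : p₁ v ∈ Set.range hU.fromSpec := hv
    rwa [hU.range_fromSpec] at hv'
  · exact isAffFibre_poly 1 R (Polynomial R) Polynomial.C
      (MvPolynomial.uniqueAlgEquiv R (Fin 1)).symm.toRingEquiv
      (fun a => (MvPolynomial.uniqueAlgEquiv R (Fin 1)).symm.commutes a) δP' δX' hP' hX' hcompat q

/-- The product with the line of an integral scheme is integral. -/
theorem isIntegral_prod [IsIntegral X] {δX : X → ℤ} {δP : P → ℤ} (hX : Cyc.IsSetup X δX)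
    (hPs : Cyc.IsSetup P δP) (hδ : Cyc.DeltaCompat p₁ δP δX) : IsIntegral P := by
  haveI := flat_proj hP
  obtain ⟨ξ, hξ, -, -, hall, -⟩ := exists_affine_fibre hP hX hPs hδ (genericPoint X)
  haveI : Nonempty P := ⟨ξ⟩
  have hgen : IsGenericPoint ξ Set.univ := by
    refine Set.eq_univ_of_forall fun v => specializes_iff_mem_closure.1 ?_
    obtain ⟨w, hw, he⟩ := Flat.generalizingMap p₁ (gen_specializes (p₁ v))
    exact (hall w he).trans hw
  haveI : IrreducibleSpace P :=
    (irreducibleSpace_def P).2 (hgen.isIrreducible)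
  haveI : ∀ v : P, _root_.IsReduced (P.presheaf.stalk v) := by
    intro v
    obtain ⟨U, hU, hyU, -⟩ := exists_isAffineOpen_mem_and_subset (X := X) (x := p₁ v) (U := ⊤) trivial
    obtain ⟨j, σ, hj, -, -, hrange⟩ := exists_chart hP U hU
    obtain ⟨w, rfl⟩ := hrange v hyU
    haveI : Nonempty U := ⟨⟨_, hyU⟩⟩
    haveI : IsDomain (Polynomial Γ(X, U)) := inferInstance
    haveI : IsIntegral (Spec (CommRingCat.of (Polynomial Γ(X, U)))) := inferInstance
    exact isReduced_of_injective (j.stalkMap w).hom (ConcreteCategory.bijective_of_isIso (j.stalkMap w)).1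
  haveI : AlgebraicGeometry.IsReduced P := isReduced_of_isReduced_stalk P
  exact isIntegral_of_irreducibleSpace_of_isReduced P

end Groth.Agent.Cyc90.Horiz
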