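import Groth.Agent.Cyc90.Horiz.Chart
import Groth.Agent.Cyc90.PullDiv
import Groth.Agent.Cyc90.KeyFormula
import Groth.Agent.Cyc90.DivCycle

/-! Principal divisors of `g T + 1` along the vertical fibres. -/

set_option autoImplicit false
set_option backward.isDefEq.respectTransparency.types false
set_option linter.style.haveILetI false
universe u

open CategoryTheory CategoryTheory.Limits AlgebraicGeometry TopologicalSpace IsLocalRing Polynomial

noncomputable section

namespace Groth.Agent.Cyc90.Horiz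

variable {k : Type u} [Field k] {X P : Scheme.{u}} {f : X ⟶ Spec (CommRingCat.of k)}
  {p₁ : P ⟶ X} {p₂ : P ⟶ Spec (CommRingCat.of (Polynomial k))}

/-- The coordinate of the line as a global function. -/
def coord (p₂ : P ⟶ Spec (CommRingCat.of (Polynomial k))) : Γ(P, ⊤) :=
  p₂.appTop.hom ((Scheme.ΓSpecIso (CommRingCat.of (Polynomial k))).inv.hom Polynomial.X)

lemma toSt_eq_germ {A : Type u} [CommRing A] (w : Spec (CommRingCat.of A)) (a : A) :
    toSt w a = (Spec (CommRingCat.of A)).presheaf.germ ⊤ w trivial ((Scheme.ΓSpecIso (CommRingCat.of A)).inv.hom a) :=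
  rfl

lemma stalkMap_germ_eq_of_eq {W : Scheme.{u}} {g g' : W ⟶ X} (e : g = g') (U : X.Opens) (w : W) (h : g w ∈ U)
    (h' : g' w ∈ U) (a : Γ(X, U)) :
    (g.stalkMap w).hom (X.presheaf.germ U (g w) h a) = (g'.stalkMap w).hom (X.presheaf.germ U (g' w) h' a) := by
  subst e; rfl

lemma fromSpec_stalkMap_germ {U : X.Opens} (hU : IsAffineOpen U) (q : Spec Γ(X, U)) (h : hU.fromSpec q ∈ U)
    (a : Γ(X, U)) :
    (hU.fromSpec.stalkMap q).hom (X.presheaf.germ U (hU.fromSpec q) h a) = toSt q a := by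
  refine (Scheme.Hom.germ_stalkMap_apply hU.fromSpec U q h a).trans ?_
  rw [hU.fromSpec_app_self, CommRingCat.comp_apply, TopCat.Presheaf.germ_res_apply]
  rfl

variable (hP : IsPullback p₁ p₂ f (Spec.map (CommRingCat.ofHom (Polynomial.C : k →+* Polynomial k))))
include hP

/-- A linear form in the coordinate with a unit coefficient is a unit at the generic point of a fibre. -/
theorem isUnit_linear_section {U : X.Opens} (hU : IsAffineOpen U) (a b : Γ(X, U)) (v : P) (hv : p₁ v ∈ U)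
    (hgen : ∀ x, p₁ x = p₁ v → v ⤳ x)
    (hab : IsUnit (X.presheaf.germ U (p₁ v) hv a) ∨ IsUnit (X.presheaf.germ U (p₁ v) hv b)) :
    IsUnit ((p₁.stalkMap v).hom (X.presheaf.germ U (p₁ v) hv a) * P.presheaf.germ ⊤ v trivial (coord p₂) +
      (p₁.stalkMap v).hom (X.presheaf.germ U (p₁ v) hv b)) := by
  obtain ⟨j, σ, hj, hj₁, hj₂, hrange⟩ := exists_chart hP U hU
  obtain ⟨w, rfl⟩ := hrange v hv
  let R := Γ(X, U)
  let c := Spec.map (CommRingCat.ofHom (Polynomial.C : R →+* Polynomial R))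
  have hcoef : ∀ a : R, (j.stalkMap w).hom ((p₁.stalkMap (j w)).hom (X.presheaf.germ U (p₁ (j w)) hv a)) =
      toSt w (Polynomial.C a) := by
    intro a
    have hq : hU.fromSpec (c w) ∈ U := by
      have h : p₁ (j w) = hU.fromSpec (c w) := congrArg (fun g : _ ⟶ X => g w) hj₁
      exact h ▸ hv
    refine Eq.trans ?_ ((stalkMap_germ_eq_of_eq hj₁ U w hv hq a).trans ?_)
    · exact (DFunLike.congr_fun (congrArg CommRingCat.Hom.hom (Scheme.Hom.stalkMap_comp j p₁ w)) _).symm
    · refine (DFunLike.congr_fun (congrArg CommRingCat.Hom.hom (Scheme.Hom.stalkMap_comp c hU.fromSpec w)) _).trans ?_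
      exact (congrArg (c.stalkMap w).hom (fromSpec_stalkMap_germ hU (c w) hq a)).trans
        (toSt_stalkMap (Polynomial.C : R →+* Polynomial R) w a)
  have hcoord : (j.stalkMap w).hom (P.presheaf.germ ⊤ (j w) trivial (coord p₂)) = toSt w Polynomial.X := by
    rw [toSt_eq_germ]
    refine (Scheme.Hom.germ_stalkMap_apply j ⊤ w trivial _).trans ?_
    refine congrArg _ (Eq.trans (DFunLike.congr_fun (congrArg CommRingCat.Hom.hom
      (congrArg Scheme.Hom.appTop hj₂)) _) ?_)
    refine (DFunLike.congr_fun (congrArg CommRingCat.Hom.hom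
      (Scheme.ΓSpecIso_inv_naturality (CommRingCat.ofHom (Polynomial.mapRingHom σ)))) Polynomial.X).symm.trans ?_
    exact congrArg (Scheme.ΓSpecIso (CommRingCat.of (Polynomial R))).inv.hom (Polynomial.map_X σ)
  refine isUnit_of_map_unit (j.stalkMap w).hom _ ?_
  rw [map_add, map_mul, hcoef, hcoef, hcoord, ← map_mul, ← map_add, isUnit_toSt_iff]
  intro hmem
  -- the prime of `w` lies in the extension of its contraction
  let q := c w
  haveI : (q.asIdeal.map (Polynomial.C : R →+* Polynomial R)).IsPrime := Ideal.isPrime_map_C_of_isPrime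
  let w' : Spec (CommRingCat.of (Polynomial R)) := ⟨q.asIdeal.map Polynomial.C, inferInstance⟩
  have hq' : c w' = q := by
    refine PrimeSpectrum.ext (SetLike.ext fun r => ?_)
    show Polynomial.C r ∈ q.asIdeal.map Polynomial.C ↔ r ∈ q.asIdeal
    rw [Ideal.mem_map_C_iff]
    refine ⟨fun h => by simpa using h 0, fun h n => ?_⟩
    rw [Polynomial.coeff_C]
    split_ifs
    · exact h
    · exact Submodule.zero_mem _
  have hover : ∀ z, p₁ (j z) = hU.fromSpec (c z) := fun z => congrArg (fun g : _ ⟶ X => g z) hj₁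
  have hspec : w ⤳ w' := j.isEmbedding.isInducing.specializes_iff.1
    (hgen (j w') (by rw [hover, hover, hq']))
  have hle : w.asIdeal ≤ w'.asIdeal := (PrimeSpectrum.le_iff_specializes w w').2 hspec
  have hm := Ideal.mem_map_C_iff.1 (hle hmem)
  have ha : a ∈ q.asIdeal := by simpa using hm 1
  have hb : b ∈ q.asIdeal := by simpa using hm 0
  have key : ∀ r : R, IsUnit (X.presheaf.germ U (p₁ (j w)) hv r) → r ∉ q.asIdeal := by
    intro r hr
    have h1 : p₁ (j w) ∈ X.basicOpen r := (X.mem_basicOpen r _ hv).2 hr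
    rw [hover w] at h1
    have h2 : q ∈ hU.fromSpec ⁻¹ᵁ X.basicOpen r := h1
    rw [hU.fromSpec_preimage_basicOpen] at h2
    exact h2
  exact hab.elim (fun h => key a h ha) (fun h => key b h hb)

/-- A linear form in the coordinate with a unit coefficient is a unit at the generic point of a fibre. -/
theorem isUnit_linear (v : P) (hgen : ∀ x, p₁ x = p₁ v → v ⤳ x) (a b : X.presheaf.stalk (p₁ v))
    (hab : IsUnit a ∨ IsUnit b) :
    IsUnit ((p₁.stalkMap v).hom a * P.presheaf.germ ⊤ v trivial (coord p₂) + (p₁.stalkMap v).hom b) := by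
  obtain ⟨U₁, h₁, a, rfl⟩ := TopCat.Presheaf.exists_germ_eq X.presheaf a
  obtain ⟨U₂, h₂, b, rfl⟩ := TopCat.Presheaf.exists_germ_eq X.presheaf b
  obtain ⟨U, hU, hvU, hle⟩ := exists_isAffineOpen_mem_and_subset (X := X) (x := p₁ v) (U := U₁ ⊓ U₂) ⟨h₁, h₂⟩
  have l₁ : U ≤ U₁ := fun x hx => (hle hx).1
  have l₂ : U ≤ U₂ := fun x hx => (hle hx).2
  have h := isUnit_linear_section hP hU (X.presheaf.map (homOfLE l₁).op a) (X.presheaf.map (homOfLE l₂).op b) v hvU hgen
  rw [TopCat.Presheaf.germ_res_apply, TopCat.Presheaf.germ_res_apply] at h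
  exact h hab

variable [IsIntegral P]

omit hP in
/-- The rational function `g T + 1`. -/
def vertFn (p₁ : P ⟶ X) (p₂ : P ⟶ Spec (CommRingCat.of (Polynomial k))) (g : X.residueField (p₁ (genericPoint P))) : P.residueField (genericPoint P) :=
  (p₁.residueFieldMap (genericPoint P)).hom g *
    (P.residue (genericPoint P)).hom (P.presheaf.germ ⊤ (genericPoint P) trivial (coord p₂)) + 1

omit hP [IsIntegral P] in
lemma specMap_stalkMap (p₁ : P ⟶ X) {v ξ : P} (h : ξ ⤳ v) (z : X.presheaf.stalk (p₁ v)) :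
    Cyc.specMap v ξ h ((p₁.stalkMap v).hom z) =
      (p₁.residueFieldMap ξ).hom (Cyc.specMap (p₁ v) (p₁ ξ) (h.map p₁.continuous) z) := by
  have e1 := DFunLike.congr_fun (congrArg CommRingCat.Hom.hom
    (Scheme.Hom.stalkSpecializes_stalkMap p₁ ξ v h)) z
  change (P.residue ξ).hom ((P.presheaf.stalkSpecializes _).hom ((p₁.stalkMap v).hom z)) = _
  refine (congrArg (P.residue ξ).hom e1.symm).trans ?_
  exact (DFunLike.congr_fun (congrArg CommRingCat.Hom.hom (Scheme.residue_residueFieldMap p₁ ξ))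
    ((X.presheaf.stalkSpecializes (h.map p₁.continuous)).hom z)).symm

omit hP [IsIntegral P] in
lemma specMap_germ {v ξ : P} (h : ξ ⤳ v) (s : Γ(P, ⊤)) :
    Cyc.specMap v ξ h (P.presheaf.germ ⊤ v trivial s) = (P.residue ξ).hom (P.presheaf.germ ⊤ ξ trivial s) :=
  congrArg (P.residue ξ).hom (TopCat.Presheaf.germ_stalkSpecializes_apply P.presheaf (U := ⊤) (y := v) trivial h s)

variable [IsIntegral X] {δX : X → ℤ} {δP : P → ℤ} (hX : Cyc.IsSetup X δX) (hPs : Cyc.IsSetup P δP)
  (hδ : Cyc.DeltaCompat p₁ δP δX)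
include hX hPs hδ

theorem vertFn_spec (v : P) (hgen : ∀ x, p₁ x = p₁ v → v ⤳ x) (hd : δP v + 1 = δP (genericPoint P))
    (hy : δX (p₁ v) + 1 = δX (p₁ (genericPoint P)))
    (hval : ValuationRing (X.presheaf.stalk (p₁ v)))
    (g : X.residueField (p₁ (genericPoint P))) (hg : g ≠ 0) :
    vertFn p₁ p₂ g ≠ 0 ∧
    Cyc.divFun δP (genericPoint P) (vertFn p₁ p₂ g) v =
      min 0 (Cyc.divFun δX (p₁ (genericPoint P)) g (p₁ v)) := by
  haveI := hX.1
  haveI := hPs.1
  haveI := flat_proj hP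
  haveI := locallyOfFiniteType_proj hP
  have hη : p₁ (genericPoint P) = genericPoint X := apply_genericPoint_of_flat p₁
  have hs : genericPoint P ⤳ v := gen_specializes v
  have hsX : p₁ (genericPoint P) ⤳ p₁ v := hs.map p₁.continuous
  have hdimY : ringKrullDim (X.presheaf.stalk (p₁ v)) ≤ 1 := by
    rw [ringKrullDim_stalk_irreducible hX.2.2 (p₁ v), ← hη,
      show (δX (p₁ (genericPoint P)) - δX (p₁ v)).toNat = 1 by omega]
    rfl
  let A := X.presheaf.stalk (p₁ v)
  letI : Algebra A (X.residueField (p₁ (genericPoint P))) := (Cyc.specMap _ _ hsX).toAlgebra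
  haveI : IsFractionRing A (X.residueField (p₁ (genericPoint P))) := isFractionRing_specMap' hη hsX
  haveI := krullDimLE_one hdimY
  have hord : ∀ a : A, a ≠ 0 →
      Cyc.ordAt (p₁ v) _ hsX (Cyc.specMap _ _ hsX a) = ((Ring.ord A a).toNat : ℤ) := by
    intro a ha
    have hne : Cyc.specMap _ _ hsX a ≠ 0 := fun h0 =>
      ha (IsFractionRing.injective A (X.residueField (p₁ (genericPoint P))) (h0.trans (map_zero _).symm))
    rw [ordAt_generic' hη hsX hdimY _ hne,
      Len90.ordFrac_of_mul_eq (Cyc.specMap _ _ hsX a) a 1 ha one_ne_zero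
        (by rw [map_one, mul_one]; rfl)]
    simp
  unfold Cyc.divFun
  rw [dif_pos (show genericPoint P ⤳ v ∧ _ from ⟨hs, hd⟩), dif_pos (show p₁ (genericPoint P) ⤳ p₁ v ∧ _ from ⟨hsX, hy⟩)]
  haveI : IsDomain A := inferInstance
  haveI : ValuationRing A := hval
  rcases ValuationRing.isInteger_or_isInteger A g with ⟨a, ha⟩ | ⟨a, ha⟩
  · have ha' : Cyc.specMap _ _ hsX a = g := ha
    have ha0 : a ≠ 0 := by rintro rfl; exact hg (by rw [← ha', map_zero])
    have hu := isUnit_linear hP v hgen a 1 (Or.inr isUnit_one)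
    have he : vertFn p₁ p₂ g = Cyc.specMap v _ hs
        ((p₁.stalkMap v).hom a * P.presheaf.germ ⊤ v trivial (coord p₂) + (p₁.stalkMap v).hom 1) := by
      rw [map_add, map_mul, map_one, map_one, specMap_stalkMap, ha', specMap_germ]
      rfl
    refine ⟨fun h0 => (hu.map (Cyc.specMap v _ hs)).ne_zero (he.symm.trans h0), ?_⟩
    rw [ordAt_eq_zero hPs hs hd _ _ 1 hu isUnit_one (by rw [map_one, mul_one]; exact he), ← ha', hord a ha0]
    simp
  · have ha' : Cyc.specMap _ _ hsX a = g⁻¹ := ha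
    have ha0 : a ≠ 0 := by rintro rfl; exact inv_ne_zero hg (by rw [← ha', map_zero])
    have hu := isUnit_linear hP v hgen 1 a (Or.inl isUnit_one)
    have hg' : (p₁.residueFieldMap (genericPoint P)).hom g ≠ 0 :=
      (map_ne_zero_iff _ (RingHom.injective _)).2 hg
    have he : vertFn p₁ p₂ g = (p₁.residueFieldMap (genericPoint P)).hom g * Cyc.specMap v _ hs
        ((p₁.stalkMap v).hom 1 * P.presheaf.germ ⊤ v trivial (coord p₂) + (p₁.stalkMap v).hom a) := by
      rw [map_add, map_mul, map_one, map_one, specMap_stalkMap, ha', specMap_germ, one_mul, mul_add,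
        map_inv₀, mul_inv_cancel₀ hg']
      rfl
    have hne2 := (hu.map (Cyc.specMap v _ hs)).ne_zero
    refine ⟨fun h0 => mul_ne_zero hg' hne2 (he.symm.trans h0), ?_⟩
    have hc : ShiftAt p₁ δP δX 1 := by
      intro x hx
      obtain ⟨ζ, hζ, hdζ, -, hall, -⟩ := exists_affine_fibre hP hX hPs hδ (p₁ x)
      rw [← hx ζ hζ (hall x rfl)]
      rw [hdζ, hζ]; rfl
    obtain ⟨ζ, hζ, hdζ, hmax, hall, -⟩ := exists_affine_fibre hP hX hPs hδ (p₁ v)
    obtain rfl : ζ = v := ((hall v rfl).antisymm (hgen ζ hζ)).eq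
    have hpull := congrFun (pullFun_divFun hPs hX p₁ hc g hg) ζ
    unfold Cyc.pullFun Cyc.divFun at hpull
    rw [dif_pos (show genericPoint P ⤳ ζ ∧ _ from ⟨hs, hd⟩),
      dif_pos (show p₁ (genericPoint P) ⤳ p₁ ζ ∧ _ from ⟨hsX, hy⟩),
      if_pos (show δP ζ = δX (p₁ ζ) + 1 from by rw [hdζ]; rfl), hmax] at hpull
    haveI : IsSimpleModule (P.presheaf.stalk ζ) (P.presheaf.stalk ζ ⧸ maximalIdeal (P.presheaf.stalk ζ)) :=
      isSimpleModule_iff_isCoatom.2 (maximalIdeal.isMaximal _).out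
    rw [Module.length_eq_one] at hpull
    rw [he, ordAt_mul hPs hs hd _ _ hg' hne2, ← hpull,
      ordAt_eq_zero hPs hs hd _ _ 1 hu isUnit_one ((congrArg (_ * ·) (map_one (Cyc.specMap ζ _ hs))).trans (mul_one _)),
      ← inv_inv g, ← ha', ordAt_inv hX hsX hy _ (by rw [ha']; exact inv_ne_zero hg), hord a ha0]
    have : (0 : ℤ) ≤ ((Ring.ord A a).toNat : ℤ) := Int.natCast_nonneg _
    simp only [ENat.toNat_one, Nat.cast_one, mul_one, add_zero]
    omega

end Groth.Agent.Cyc90.Horiz
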