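import Groth.Agent.Cyc90.KeyFormula
import Groth.Agent.Cyc90.DivCycle
import Groth.Agent.Cyc90.FinFibre
import Groth.Agent.Curves2.CurvePlaces
import Groth.Agent.Curves2.ProjectiveCurve
import Groth.Agent.CrvFF30.Basic

/-! Two functions on a proper smooth curve whose negative parts differ by one point. -/

set_option autoImplicit false
set_option backward.isDefEq.respectTransparency.types false
set_option linter.style.haveILetI false
universe u

open CategoryTheory AlgebraicGeometry TopologicalSpace IsLocalRing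

noncomputable section

namespace Groth.Agent.Cyc90.Horiz

variable {K : Type u} [Field K] {X : Scheme.{u}} [IsIntegral X] (c : X ⟶ Spec (CommRingCat.of K))
  [IsProper c] [Smooth c] {δ : X → ℤ} (hX : Cyc.IsSetup X δ)

include c hX

open Classical in
theorem exists_polar_pair (hdim : topologicalKrullDim X = 1)
    (hδ : ∀ y : X, IsClosed ({y} : Set X) → δ y + 1 = δ (genericPoint X)) (y₀ : X)
    (hy₀ : IsClosed ({y₀} : Set X)) :
    ∃ g₁ g₂ : X.residueField (genericPoint X), g₁ ≠ 0 ∧ g₂ ≠ 0 ∧ ∀ y : X, IsClosed ({y} : Set X) →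
      min 0 (Cyc.divFun δ (genericPoint X) g₁ y) - min 0 (Cyc.divFun δ (genericPoint X) g₂ y) =
        if y = y₀ then 1 else 0 := by
  classical
  haveI := hX.1
  haveI : CompactSpace X := QuasiCompact.compactSpace_of_compactSpace c
  have hval := CrvFF30.stalks_valuationRing c hdim
  let η := genericPoint X
  let ψ : X.functionField →+* X.residueField η := (X.residue η).hom
  let d : X.functionField → X → ℤ := fun z y => Cyc.divFun δ η (ψ z) y
  have hdy : ∀ y, IsClosed ({y} : Set X) → ∀ z, d z y = Cyc.ordAt y η (gen_specializes y) (ψ z) := by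
    intro y hy z
    simp only [d, Cyc.divFun]
    rw [dif_pos (show η ⤳ y ∧ _ from ⟨gen_specializes y, hδ y hy⟩)]
  have hdimy : ∀ y, IsClosed ({y} : Set X) → ringKrullDim (X.presheaf.stalk y) = 1 :=
    fun y hy => dim_one_of_delta hX (hδ y hy)
  have hord : ∀ y, IsClosed ({y} : Set X) → ∀ (a : X.presheaf.stalk y), a ≠ 0 →
      d (algebraMap _ X.functionField a) y = ((Ring.ord (X.presheaf.stalk y) a).toNat : ℤ) := by
    intro y hy a ha
    rw [hdy y hy]
    letI := (Cyc.specMap y η (gen_specializes y)).toAlgebra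
    haveI := isFractionRing_specMap y
    haveI := krullDimLE_one (hdimy y hy).le
    have he : ψ (algebraMap _ X.functionField a) = algebraMap (X.presheaf.stalk y) (X.residueField η) a := rfl
    have hne : ψ (algebraMap _ X.functionField a) ≠ 0 := fun h0 =>
      ha (IsFractionRing.injective (X.presheaf.stalk y) (X.residueField η) ((he ▸ h0).trans (map_zero _).symm))
    rw [ordAt_generic y (hdimy y hy).le _ hne, Len90.ordFrac_of_mul_eq (ψ (algebraMap _ X.functionField a)) a 1 ha
      one_ne_zero (by rw [map_one, mul_one, he])]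
    simp
  have hψ : ∀ z, z ≠ 0 → ψ z ≠ 0 := fun z hz h0 => hz (by
    have := (IsLocalRing.residue_eq_zero_iff z).1 h0
    by_contra hz'
    exact (IsLocalRing.mem_maximalIdeal z).1 this (isUnit_iff_ne_zero.2 hz'))
  have hnonneg : ∀ y, IsClosed ({y} : Set X) → ∀ z, z ≠ 0 → Curves2.RegAt y z → 0 ≤ d z y := by
    rintro y hy z hz ⟨a, rfl⟩
    rw [hord y hy a (fun h0 => hz (by rw [h0, map_zero]))]
    exact Int.natCast_nonneg _
  have hmul : ∀ y, IsClosed ({y} : Set X) → ∀ z w, z ≠ 0 → w ≠ 0 → d (z * w) y = d z y + d w y := by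
    intro y hy z w hz hw
    rw [hdy y hy, hdy y hy, hdy y hy, map_mul]
    exact ordAt_mul hX _ (hδ y hy) _ _ (hψ z hz) (hψ w hw)
  have hneg : ∀ y, IsClosed ({y} : Set X) → ∀ z, z ≠ 0 → ¬ Curves2.RegAt y z → d z y < 0 := by
    intro y hy z hz hreg
    obtain ⟨_, _⟩ := hval y
    rcases ValuationRing.isInteger_or_isInteger (X.presheaf.stalk y) z with h | ⟨a, ha⟩
    · exact absurd h hreg
    have ha0 : a ≠ 0 := fun h0 => inv_ne_zero hz (by rw [← ha, h0, map_zero])
    have h1 := hmul y hy z z⁻¹ hz (inv_ne_zero hz)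
    have h2 : d (1 : X.functionField) y = 0 := by
      have := hord y hy 1 one_ne_zero
      rw [map_one] at this
      rw [this]; simp
    rw [mul_inv_cancel₀ hz, h2, ← ha, hord y hy a ha0] at h1
    haveI := krullDimLE_one (hdimy y hy).le
    have h3 : (Ring.ord (X.presheaf.stalk y) a).toNat ≠ 0 := by
      rw [Ne, ENat.toNat_eq_zero, not_or]
      refine ⟨fun h0 => hreg ?_, Ring.ord_ne_top (mem_nonZeroDivisors_of_ne_zero ha0)⟩
      rw [Ring.ord, Module.length_eq_zero_iff, Submodule.Quotient.subsingleton_iff] at h0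
      obtain ⟨u, rfl⟩ := Ideal.span_singleton_eq_top.1 h0
      exact ⟨(u⁻¹ : (X.presheaf.stalk y)ˣ), by rw [map_units_inv, ha, inv_inv]⟩
    omega
  -- a uniformizer
  obtain ⟨t, ht0, ht⟩ : ∃ t : X.functionField, t ≠ 0 ∧ d t y₀ = 1 := by
    obtain ⟨_, _⟩ := hval y₀
    haveI : IsPrincipalIdealRing (X.presheaf.stalk y₀) :=
      IsPrincipalIdealRing.of_isNoetherianRing_of_isBezout
    obtain ⟨π, hπ⟩ := IsPrincipalIdealRing.principal (maximalIdeal (X.presheaf.stalk y₀))
    have hπ0 : π ≠ 0 := by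
      rintro rfl
      have hF : IsField (X.presheaf.stalk y₀) := isField_iff_maximalIdeal_eq.2
        (hπ.trans (Submodule.span_zero_singleton _))
      have h := hdimy y₀ hy₀
      rw [ringKrullDim_eq_zero_of_isField hF] at h
      exact zero_ne_one h
    refine ⟨algebraMap _ _ π, fun h0 => hπ0 (IsFractionRing.injective (X.presheaf.stalk y₀) X.functionField
      (h0.trans (map_zero _).symm)), ?_⟩
    rw [hord y₀ hy₀ π hπ0]
    haveI : IsSimpleModule (X.presheaf.stalk y₀) (X.presheaf.stalk y₀ ⧸ Ideal.span {π}) :=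
      isSimpleModule_iff_isCoatom.2 (by
        rw [Ideal.span, ← hπ]; exact (maximalIdeal.isMaximal _).out)
    rw [Ring.ord, Module.length_eq_one]
    simp
  have hfinT : {y : X | IsClosed ({y} : Set X) ∧ ¬ Curves2.RegAt y t ∧ y ≠ y₀}.Finite := by
    have h := LocallyFiniteSupport.finite_inter_support_of_isCompact (f := fun y => d t y)
      (fun z => divFun_locallyFinite hX η (ψ t) (hψ t ht0) z) isCompact_univ
    rw [Set.univ_inter] at h
    refine h.subset fun y hy => ?_
    have := hneg y hy.1 t ht0 hy.2.1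
    exact this.ne
  obtain ⟨z, hz₁, hz₂, hz₃⟩ := Curves2.exists_fun_poles c hdim hval {y₀} hfinT.toFinset
    (fun y hy => by rw [Finset.mem_singleton] at hy; exact hy ▸ hy₀)
    (fun y hy => (hfinT.mem_toFinset.1 hy).1)
    (Finset.disjoint_singleton_left.2 fun h => (hfinT.mem_toFinset.1 h).2.2 rfl)
    (fun _ : Unit => t⁻¹)
  have hz0 : z ≠ 0 := by
    rintro rfl
    exact hz₂ y₀ (Finset.mem_singleton_self _) ⟨0, map_zero _⟩
  refine ⟨ψ (z * t), ψ z, hψ _ (mul_ne_zero hz0 ht0), hψ _ hz0, fun y hy => ?_⟩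
  show min 0 (d (z * t) y) - min 0 (d z y) = _
  by_cases h : y = y₀
  · subst h
    have h1 := hneg y hy z hz0 (hz₂ y (Finset.mem_singleton_self _))
    rw [if_pos rfl, hmul y hy z t hz0 ht0, ht]
    omega
  · have h1 : Curves2.RegAt y z := hz₁ y (by simpa using h)
    have h2 : Curves2.RegAt y (z * t) := by
      by_cases hT : y ∈ hfinT.toFinset
      · simpa using hz₃ y hT ()
      · refine Curves2.regAt_mul h1 (by_contra fun h3 => hT (hfinT.mem_toFinset.2 ⟨hy, h3, h⟩))
    rw [if_neg h, min_eq_left (hnonneg y hy _ (mul_ne_zero hz0 ht0) h2), min_eq_left (hnonneg y hy _ hz0 h1),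
      sub_self]

end Groth.Agent.Cyc90.Horiz
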